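import Mathlib
import Groth.Prelude.Def_ARSys

/-! # Projective systems up to translation: images, quasi-inverses -/

set_option autoImplicit false
set_option backward.isDefEq.respectTransparency false

universe w v u

open CategoryTheory CategoryTheory.Limits Opposite

noncomputable section

namespace Groth.Agent.ARLib

variable {C : Type u} [Category.{v} C]

lemma tr_comp (X : ARSys.PS C) {a b c : ℕ} (h : a ≤ b) (h' : b ≤ c) :
    ARSys.tr X h' ≫ ARSys.tr X h = ARSys.tr X (h.trans h') := by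
  rw [← X.map_comp]; rfl

lemma tr_comp_assoc (X : ARSys.PS C) {a b c : ℕ} (h : a ≤ b) (h' : b ≤ c) {W : C} (f : X.obj (op a) ⟶ W) :
    ARSys.tr X h' ≫ ARSys.tr X h ≫ f = ARSys.tr X (h.trans h') ≫ f := by
  rw [← Category.assoc, tr_comp]

lemma tr_nat {X Y : ARSys.PS C} (u : X ⟶ Y) {n m : ℕ} (h : n ≤ m) :
    u.app (op m) ≫ ARSys.tr Y h = ARSys.tr X h ≫ u.app (op n) :=
  (u.naturality _).symm

lemma tr_refl (X : ARSys.PS C) {n : ℕ} (h : n ≤ n) : ARSys.tr X h = 𝟙 _ :=
  X.map_id _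

section Ab
variable [Abelian C]

lemma im_comp_epi {X Y W : C} (h : W ⟶ X) [Epi h] (f : X ⟶ Y) :
    imageSubobject (h ≫ f) = imageSubobject f := by
  refine le_antisymm (imageSubobject_comp_le h f) ?_
  haveI : IsIso (Subobject.ofLE _ _ (imageSubobject_comp_le h f)) := isIso_of_mono_of_epi _
  exact Subobject.le_of_comm (inv (Subobject.ofLE _ _ (imageSubobject_comp_le h f)))
    ((IsIso.inv_comp_eq _).2 (Subobject.ofLE_arrow _).symm)

lemma im_le_iff {A B Y : C} (f : A ⟶ Y) (g : B ⟶ Y) :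
    imageSubobject f ≤ imageSubobject g ↔
      ∃ (A' : C) (π : A' ⟶ A) (_ : Epi π) (x : A' ⟶ B), π ≫ f = x ≫ g := by
  constructor
  · intro h
    obtain ⟨A', π, hπ, x, hx⟩ := surjective_up_to_refinements_of_epi (factorThruImageSubobject g)
      (factorThruImageSubobject f ≫ Subobject.ofLE _ _ h)
    refine ⟨A', π, hπ, x, ?_⟩
    have := congrArg (· ≫ (imageSubobject g).arrow) hx
    simpa using this
  · rintro ⟨A', π, hπ, x, hx⟩
    rw [← im_comp_epi π f, hx]
    exact imageSubobject_comp_le x g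

lemma im_mono_comp {A B Y Z : C} {f : A ⟶ Y} {g : B ⟶ Y} (h : imageSubobject f ≤ imageSubobject g)
    (k : Y ⟶ Z) : imageSubobject (f ≫ k) ≤ imageSubobject (g ≫ k) := by
  obtain ⟨A', π, hπ, x, hx⟩ := (im_le_iff f g).1 h
  exact (im_le_iff _ _).2 ⟨A', π, hπ, x, by rw [reassoc_of% hx]⟩

lemma im_le_lift {A B Y T : C} {f : A ⟶ Y} {g : B ⟶ Y} (h : imageSubobject f ≤ imageSubobject g) (t : T ⟶ A) :
    ∃ (T' : C) (π : T' ⟶ T) (_ : Epi π) (x : T' ⟶ B), π ≫ t ≫ f = x ≫ g :=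
  (im_le_iff (t ≫ f) g).1 ((imageSubobject_comp_le t f).trans h)

lemma im_of_eq {A Y : C} {f g : A ⟶ Y} (e : g = f) : imageSubobject g = imageSubobject f := by subst e; rfl

lemma im_antitone (X : ARSys.PS C) {n a b : ℕ} (ha : n ≤ a) (hab : a ≤ b) :
    imageSubobject (ARSys.tr X (ha.trans hab)) ≤ imageSubobject (ARSys.tr X ha) := by
  rw [← tr_comp X ha hab]
  exact imageSubobject_comp_le _ _

lemma im_shift_antitone (X : ARSys.PS C) (n : ℕ) {r s : ℕ} (h : r ≤ s) :
    imageSubobject ((ARSys.tr X (Nat.le_add_right n s))) ≤ imageSubobject ((ARSys.tr X (Nat.le_add_right n r))) :=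
  im_antitone X (Nat.le_add_right n r) (Nat.add_le_add_left h n)

lemma exact_app {S : ShortComplex (ARSys.PS C)} (hS : S.Exact) (n : ℕ) :
    (ShortComplex.mk (S.f.app (op n)) (S.g.app (op n))
      (by rw [← NatTrans.comp_app, S.zero]; rfl)).Exact :=
  hS.map ((evaluation ℕᵒᵖ C).obj (op n))

instance mono_app' {X Y : ARSys.PS C} (f : X ⟶ Y) [Mono f] (n : ℕᵒᵖ) : Mono (f.app n) :=
  ((evaluation ℕᵒᵖ C).obj n).map_mono f

instance epi_app' {X Y : ARSys.PS C} (f : X ⟶ Y) [Epi f] (n : ℕᵒᵖ) : Epi (f.app n) :=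
  ((evaluation ℕᵒᵖ C).obj n).map_epi f

lemma kernel_null_iff {X Y : ARSys.PS C} (u : X ⟶ Y) :
    ARSys.IsARNull (kernel u) ↔ ∃ r : ℕ, ∀ (n : ℕ) {A : C} (x : A ⟶ X.obj (op (n + r))),
      x ≫ u.app (op (n + r)) = 0 → x ≫ (ARSys.tr X (Nat.le_add_right n r)) = 0 := by
  constructor
  · rintro ⟨r, hr'⟩
    have hr : ∀ n, ARSys.tr (kernel u) (Nat.le_add_right n r) = 0 := hr'
    refine ⟨r, fun n A x hx => ?_⟩
    have hE := exact_app (ShortComplex.exact_of_f_is_kernel
      (ShortComplex.mk (kernel.ι u) u (kernel.condition u)) (kernelIsKernel u)) (n + r)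
    obtain ⟨A', π, hπ, x', hx'⟩ := hE.exact_up_to_refinements x hx
    rw [← cancel_epi π, ← Category.assoc, hx', comp_zero, Category.assoc]
    show x' ≫ (kernel.ι u).app (op (n + r)) ≫ (ARSys.tr X (Nat.le_add_right n r)) = 0
    rw [tr_nat (kernel.ι u)]
    show x' ≫ (ARSys.tr (kernel u) (Nat.le_add_right n r)) ≫ _ = 0
    rw [hr n, zero_comp, comp_zero]
  · rintro ⟨r, hr⟩
    refine ⟨r, fun n => show ARSys.tr (kernel u) (Nat.le_add_right n r) = 0 from ?_⟩
    rw [← cancel_mono ((kernel.ι u).app (op n)), zero_comp]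
    show ARSys.tr (kernel u) _ ≫ (kernel.ι u).app (op n) = 0
    rw [← tr_nat (kernel.ι u)]
    refine hr n _ ?_
    rw [← NatTrans.comp_app, kernel.condition]
    rfl

lemma coker_null_iff {X Y : ARSys.PS C} (u : X ⟶ Y) :
    ARSys.IsARNull (cokernel u) ↔ ∃ r : ℕ, ∀ n : ℕ,
      imageSubobject ((ARSys.tr Y (Nat.le_add_right n r))) ≤ imageSubobject (u.app (op n)) := by
  constructor
  · rintro ⟨r, hr'⟩
    have hr : ∀ n, ARSys.tr (cokernel u) (Nat.le_add_right n r) = 0 := hr'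
    refine ⟨r, fun n => (im_le_iff _ _).2 ?_⟩
    have hE := exact_app (ShortComplex.exact_of_g_is_cokernel
      (ShortComplex.mk u (cokernel.π u) (cokernel.condition u)) (cokernelIsCokernel u)) n
    obtain ⟨A', π, hπ, x, hx⟩ := hE.exact_up_to_refinements ((ARSys.tr Y (Nat.le_add_right n r))) (by
      show ARSys.tr Y _ ≫ (cokernel.π u).app (op n) = 0
      rw [← tr_nat (cokernel.π u)]
      show _ ≫ (ARSys.tr (cokernel u) (Nat.le_add_right n r)) = 0
      rw [hr n, comp_zero])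
    exact ⟨A', π, hπ, x, hx⟩
  · rintro ⟨r, hr⟩
    refine ⟨r, fun n => show ARSys.tr (cokernel u) (Nat.le_add_right n r) = 0 from ?_⟩
    rw [← cancel_epi ((cokernel.π u).app (op (n + r))), comp_zero]
    show (cokernel.π u).app (op (n + r)) ≫ ARSys.tr (cokernel u) _ = 0
    rw [tr_nat (cokernel.π u)]
    obtain ⟨A', π, hπ, x, hx⟩ := (im_le_iff _ _).1 (hr n)
    rw [← cancel_epi π, comp_zero]
    show π ≫ (ARSys.tr Y (Nat.le_add_right n r)) ≫ _ = 0
    rw [reassoc_of% hx, ← NatTrans.comp_app, cokernel.condition]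
    exact comp_zero

lemma shiftMap_zero_of_le {X : ARSys.PS C} {n r s : ℕ} (h : r ≤ s) {A : C} (x : A ⟶ X.obj (op (n + s)))
    (hx : (x ≫ ARSys.tr X (Nat.add_le_add_left h n)) ≫ (ARSys.tr X (Nat.le_add_right n r)) = 0) :
    x ≫ (ARSys.tr X (Nat.le_add_right n s)) = 0 := by
  rw [Category.assoc, tr_comp] at hx
  exact hx

/-- A common bound for the two nullity conditions. -/
lemma exists_bound {X Y : ARSys.PS C} (u : X ⟶ Y) (hu : ARSys.IsARIso u) :
    ∃ r : ℕ, (∀ (n : ℕ) {A : C} (x : A ⟶ X.obj (op (n + r))),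
      x ≫ u.app (op (n + r)) = 0 → x ≫ (ARSys.tr X (Nat.le_add_right n r)) = 0) ∧
      ∀ n : ℕ, imageSubobject ((ARSys.tr Y (Nat.le_add_right n r))) ≤ imageSubobject (u.app (op n)) := by
  obtain ⟨r₁, h₁⟩ := (kernel_null_iff u).1 hu.1
  obtain ⟨r₂, h₂⟩ := (coker_null_iff u).1 hu.2
  refine ⟨max r₁ r₂, fun n A x hx => ?_, fun n => (im_shift_antitone Y n (le_max_right _ _)).trans (h₂ n)⟩
  refine shiftMap_zero_of_le (le_max_left r₁ r₂) x (h₁ n _ ?_)
  rw [Category.assoc, ← tr_nat u, reassoc_of% hx, zero_comp]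

/-- An isomorphism up to translation has a quasi-inverse. -/
theorem exists_inv {X Y : ARSys.PS C} (u : X ⟶ Y) (hu : ARSys.IsARIso u) :
    ∃ (r : ℕ) (w : ∀ n : ℕ, Y.obj (op (n + r)) ⟶ X.obj (op n)),
      (∀ n, w n ≫ u.app (op n) = (ARSys.tr Y (Nat.le_add_right n r))) ∧
      (∀ n, u.app (op (n + r)) ≫ w n = (ARSys.tr X (Nat.le_add_right n r))) ∧
      ∀ (n m : ℕ) (h : n ≤ m), ARSys.tr Y (Nat.add_le_add_right h r) ≫ w n = w m ≫ ARSys.tr X h := by
  obtain ⟨r, hk, hc⟩ := exists_bound u hu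
  choose A' π hπ x hx using fun n => (im_le_iff _ _).1 (hc (n + r))
  have hd : ∀ n, kernel.ι (π n) ≫ x n ≫ (ARSys.tr X (Nat.le_add_right n r)) = 0 := fun n => by
    rw [← Category.assoc]
    refine hk n _ ?_
    rw [Category.assoc, ← hx n, reassoc_of% (kernel.condition (π n)), zero_comp]
  let w : ∀ n, Y.obj (op (n + r + r)) ⟶ X.obj (op n) := fun n =>
    haveI := hπ n
    Abelian.epiDesc (π n) (x n ≫ (ARSys.tr X (Nat.le_add_right n r))) (hd n)
  have spec : ∀ (n : ℕ) {A : C} (y : A ⟶ Y.obj (op (n + r + r))) (z : A ⟶ X.obj (op (n + r))),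
      z ≫ u.app (op (n + r)) = y ≫ (ARSys.tr Y (Nat.le_add_right (n + r) r)) → y ≫ w n = z ≫ (ARSys.tr X (Nat.le_add_right n r)) := by
    intro n A y z hz
    haveI := hπ n
    obtain ⟨B, p, hp, y', hy'⟩ := surjective_up_to_refinements_of_epi (π n) y
    rw [← cancel_epi p, reassoc_of% hy']
    show y' ≫ π n ≫ Abelian.epiDesc (π n) _ _ = _
    rw [Abelian.comp_epiDesc, ← Category.assoc, ← Category.assoc p, ← sub_eq_zero, ← Preadditive.sub_comp]
    refine hk n _ ?_
    rw [Preadditive.sub_comp, Category.assoc, Category.assoc, hz, ← hx n, ← reassoc_of% hy', sub_self]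
  have hn : ∀ n, n + (r + r) = n + r + r := fun n => (Nat.add_assoc n r r).symm
  refine ⟨r + r, fun n => ARSys.tr Y (hn n).ge ≫ w n, fun n => ?_, fun n => ?_, fun n m h => ?_⟩
  · haveI := hπ n
    rw [Category.assoc]
    have : w n ≫ u.app (op n) = ARSys.tr Y (Nat.le_add_right n r |>.trans (Nat.le_add_right _ r)) := by
      rw [← cancel_epi (π n)]
      show π n ≫ Abelian.epiDesc (π n) _ _ ≫ _ = _
      rw [Abelian.comp_epiDesc_assoc, Category.assoc, ← tr_nat u, reassoc_of% (hx n).symm]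
      exact congrArg (π n ≫ ·) (tr_comp Y _ _)
    rw [this, tr_comp]
  · rw [← Category.assoc, tr_nat u, Category.assoc,
      spec n (u.app (op (n + r + r))) ((ARSys.tr X (Nat.le_add_right (n + r) r))) (tr_nat u (Nat.le_add_right _ r)).symm]
    rw [tr_comp, tr_comp]
  · haveI := hπ m
    rw [← Category.assoc, tr_comp, Category.assoc]
    have : ARSys.tr Y (Nat.add_le_add_right (Nat.add_le_add_right h r) r) ≫ w n = w m ≫ ARSys.tr X h := by
      rw [← cancel_epi (π m), ← Category.assoc,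
        spec n (π m ≫ ARSys.tr Y (Nat.add_le_add_right (Nat.add_le_add_right h r) r))
          (x m ≫ ARSys.tr X (Nat.add_le_add_right h r)) (by
          rw [Category.assoc, ← tr_nat u, reassoc_of% (hx m).symm, Category.assoc, tr_comp, tr_comp])]
      show _ = π m ≫ Abelian.epiDesc (π m) _ _ ≫ _
      rw [Abelian.comp_epiDesc_assoc, Category.assoc, Category.assoc, tr_comp, tr_comp]
    rw [← this, tr_comp_assoc]

theorem isARIso_of_inv {X Y : ARSys.PS C} (u : X ⟶ Y) (r : ℕ) (w : ∀ n : ℕ, Y.obj (op (n + r)) ⟶ X.obj (op n))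
    (h₁ : ∀ n, w n ≫ u.app (op n) = (ARSys.tr Y (Nat.le_add_right n r)))
    (h₂ : ∀ n, u.app (op (n + r)) ≫ w n = (ARSys.tr X (Nat.le_add_right n r))) : ARSys.IsARIso u :=
  ⟨(kernel_null_iff u).2 ⟨r, fun n A x hx => by rw [← h₂ n, reassoc_of% hx, zero_comp]⟩,
    (coker_null_iff u).2 ⟨r, fun n => by rw [← h₁ n]; exact imageSubobject_comp_le _ _⟩⟩

/-- The translation map `X[r] ⟶ X`. -/
def shiftHom (X : ARSys.PS C) (r : ℕ) : (ARSys.shift C r).obj X ⟶ X where
  app n := (ARSys.tr X (Nat.le_add_right n.unop r))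
  naturality n m f := by
    show X.map _ ≫ X.map _ = X.map _ ≫ X.map _
    rw [← X.map_comp, ← X.map_comp]
    rfl

lemma exists_imageSystem (X : ARSys.PS C) {r : ℕ}
    (hr : ∀ s : ℕ, r ≤ s → ∀ n : ℕ,
      imageSubobject ((ARSys.tr X (Nat.le_add_right n s))) = imageSubobject ((ARSys.tr X (Nat.le_add_right n r)))) :
    ∃ (I : ARSys.PS C) (ι : I ⟶ X), Mono ι ∧ ARSys.IsStrict I ∧ ARSys.IsARIso ι ∧
      ∀ n, imageSubobject (ι.app (op n)) = imageSubobject ((ARSys.tr X (Nat.le_add_right n r))) := by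
  let τ := shiftHom X r
  have him : ∀ n, imageSubobject ((Abelian.image.ι τ).app (op n)) = imageSubobject ((ARSys.tr X (Nat.le_add_right n r))) := fun n => by
    rw [← im_comp_epi ((Abelian.factorThruImage τ).app (op n)), ← NatTrans.comp_app, Abelian.image.fac]
    rfl
  refine ⟨Abelian.image τ, Abelian.image.ι τ, inferInstance, fun n m h => ?_,
    ⟨(kernel_null_iff _).2 ⟨0, fun n A x hx => ?_⟩, (coker_null_iff _).2 ⟨r, fun n => (him n).ge⟩⟩, him⟩
  · have hle : n + r ≤ m + r := Nat.add_le_add_right h r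
    have h1 : imageSubobject ((Abelian.image.ι τ).app (op n)) ≤
        imageSubobject (ARSys.tr (Abelian.image τ) h ≫ (Abelian.image.ι τ).app (op n)) := by
      rw [← im_comp_epi ((Abelian.factorThruImage τ).app (op m))
        (ARSys.tr (Abelian.image τ) h ≫ (Abelian.image.ι τ).app (op n)), ← tr_nat, ← Category.assoc,
        ← NatTrans.comp_app, Abelian.image.fac]
      refine le_trans ?_ (im_of_eq (g := τ.app (op m) ≫ ARSys.tr X h) (tr_comp X h (Nat.le_add_right m r))).ge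
      rw [him n]
      obtain ⟨k, hk⟩ := Nat.exists_eq_add_of_le (show n ≤ m + r by omega)
      rw [← hr k (by omega) n]
      exact im_antitone X _ hk.le
    obtain ⟨A', π, hπ, x, hx⟩ := (im_le_iff _ _).1 h1
    rw [← Category.assoc, cancel_mono] at hx
    exact epi_of_epi_fac hx.symm
  · rw [(cancel_mono ((Abelian.image.ι τ).app (op (n + 0)))).1 (hx.trans zero_comp.symm), zero_comp]

end Ab

section Lin
variable [Preadditive C] {A : Type w} [CommRing A] [Linear A C]

lemma homKilled_of_src {I : Ideal A} {X Y : C} (h : ARSys.KilledBy I X) (φ : X ⟶ Y) :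
    ARSys.HomKilledBy I φ := fun a ha => by
  rw [← Category.id_comp φ, ← Linear.smul_comp, h a ha, zero_comp]

lemma homKilled_of_tgt {I : Ideal A} {X Y : C} (h : ARSys.KilledBy I Y) (φ : X ⟶ Y) :
    ARSys.HomKilledBy I φ := fun a ha => by
  rw [← Category.comp_id φ, ← Linear.comp_smul, h a ha, comp_zero]

lemma epi_of_isQuot {I : Ideal A} {X Q : C} {p : X ⟶ Q} (h : ARSys.IsQuot I p) : Epi p :=
  ⟨fun {Z} a b hab => (h.2 Z (p ≫ a) fun c hc => by
    rw [← Linear.comp_smul, homKilled_of_src h.1 a c hc, comp_zero]).unique rfl hab.symm⟩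

lemma existsUnique_hom_of_shift {J : Ideal A} {X Y : ARSys.PS C} (hX : ARSys.IsAdic J X)
    (hY : ARSys.TermKilled J Y) (r : ℕ) (f : (ARSys.shift C r).obj X ⟶ Y) :
    ∃! g : X ⟶ Y, ∀ n : ℕ, f.app (op n) = (ARSys.tr X (Nat.le_add_right n r)) ≫ g.app (op n) := by
  haveI : ∀ n m (h : n ≤ m), Epi (ARSys.tr X h) := fun n m h => epi_of_isQuot (hX.2 n m h)
  choose g hg hgu using fun n =>
    (hX.2 n (n + r) (Nat.le_add_right n r)).2 _ (f.app (op n)) (homKilled_of_tgt (hY n) _)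
  have hnat : ∀ (n m : ℕ) (h : n ≤ m), g m ≫ ARSys.tr Y h = ARSys.tr X h ≫ g n := fun n m h => by
    have hg' : ∀ k, (ARSys.tr X (Nat.le_add_right k r)) ≫ g k = f.app (op k) := hg
    rw [← cancel_epi ((ARSys.tr X (Nat.le_add_right m r))), reassoc_of% (hg' m), tr_nat f h, ← hg' n, tr_comp_assoc]
    show X.map _ ≫ X.map _ ≫ _ = _
    rw [← Category.assoc, ← X.map_comp]
    rfl
  refine ⟨⟨fun n => g n.unop, fun a b φ => (hnat b.unop a.unop (leOfHom φ.unop)).symm⟩, fun n => (hg n).symm,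
    fun g' hg' => NatTrans.ext (funext fun a => hgu a.unop _ (hg' a.unop).symm)⟩

end Lin

end Groth.Agent.ARLib
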